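/-
Coset enumeration certificate: the assembled result.
-/
import Cfsg.Agent.Lib.Spor.TC.Steps
import Cfsg.Agent.Lib.Spor.Fi22.Rels
import Cfsg.Agent.Lib.Spor.Fi22.CG.Part0
import Cfsg.Agent.Lib.Spor.Fi22.CG.Part1
import Cfsg.Agent.Lib.Spor.Fi22.CG.Part2
import Cfsg.Agent.Lib.Spor.Fi22.CG.Part3
import Cfsg.Agent.Lib.Spor.Fi22.CG.Part4
import Cfsg.Agent.Lib.Spor.Fi22.CG.Part5
import Cfsg.Agent.Lib.Spor.Fi22.CG.Part6
import Cfsg.Agent.Lib.Spor.Fi22.CG.Part7
import Cfsg.Agent.Lib.Spor.Fi22.CG.Part8
import Cfsg.Agent.Lib.Spor.Fi22.CG.Part9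
import Cfsg.Agent.Lib.Spor.Fi22.CG.Part10
import Cfsg.Agent.Lib.Spor.Fi22.CG.Part11
import Cfsg.Agent.Lib.Spor.Fi22.CG.Part12

namespace CfsgLib.Spor.Fi22.CG

open CfsgLib.Spor.TC

theorem steps_ok : cert.StepsOK 0 74647 :=
  (((((((((((((((((((((((((steps0.append _ steps2832).append _ steps5699).append _ steps8592).append _ steps11520).append _ steps14466).append _ steps17420).append _ steps20349).append _ steps23501).append _ steps26553).append _ steps29425).append _ steps32273).append _ steps35100).append _ steps37947).append _ steps40765).append _ steps43614).append _ steps46429).append _ steps49214).append _ steps52028).append _ steps54847).append _ steps57686).append _ steps60548).append _ steps63420).append _ steps66281).append _ steps69120).append _ steps71954)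

theorem rows_ok : cert.RowsOK 74647 14080 0 14080 :=
  ((((((((((((rows0.append _ rows1143).append _ rows2286).append _ rows3429).append _ rows4572).append _ rows5715).append _ rows6858).append _ rows8001).append _ rows9144).append _ rows10287).append _ rows11430).append _ rows12573).append _ rows13716)

theorem row_zero : cert.rowNode 0 = 0 := by decide +kernel

/-- The certificate, for the relators as powers of words. -/
noncomputable def cosetCert : CosetCert 9 relsG [1, 2, 3, 4, 5, 6, 7, 8] 14080 :=
  ⟨cert, 74647, steps_ok, rows_ok, row_zero, by decide, rfl, by decide +kernel, by decide +kernel⟩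

end CfsgLib.Spor.Fi22.CG
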